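import Groth.Prelude.Def_Pic
import Groth.Agent.QCohLib.Local
import Groth.Agent.QCohLib.Affine
import Groth.Agent.QCohLib.Closure

/-! Invertible modules are quasi-coherent. -/

namespace Groth.Agent.InvBasic

open AlgebraicGeometry CategoryTheory TopologicalSpace

universe u

variable {X : Scheme.{u}}

theorem isQuasicoherent_structureModule (X : Scheme.{u}) : (Coh.structureModule X).IsQuasicoherent := by
  rw [Groth.Agent.QCohLib.isQuasicoherent_iff_affine]
  intro U
  have := Groth.Agent.QCohLib.isQuasicoherent_tilde_obj (ModuleCat.of Γ(X, U.1) Γ(X, U.1))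
  exact Groth.Agent.QCohLib.isQuasicoherent_of_iso
    (tildeSelf ≪≫ (Scheme.Modules.restrictUnitIso U.2.fromSpec).symm)

theorem isQuasicoherent_of_isInvertible {L : X.Modules} (hL : PicF.IsInvertible L) : L.IsQuasicoherent := by
  choose U hx e using hL
  refine Groth.Agent.QCohLib.isQuasicoherent_of_cover (ι := X) (fun x ↦ (U x).ι) (fun x ↦ ⟨x, ?_⟩) fun x ↦ ?_
  · rw [Scheme.Opens.opensRange_ι]; exact hx x
  · have := isQuasicoherent_structureModule (U x : Scheme.{u})
    exact Groth.Agent.QCohLib.isQuasicoherent_of_iso (e x).some.symm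

end Groth.Agent.InvBasic
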