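import Groth.Agent.InvBasic.Basic
import Groth.Prelude.Def_CohB1

/-! A module with a local basis is invertible. -/

namespace Groth.Agent.InvBasic

open AlgebraicGeometry CategoryTheory TopologicalSpace Opposite

universe u

variable {X : Scheme.{u}}

set_option backward.isDefEq.respectTransparency false in
lemma restrict_smul_eq (L : X.Modules) (U : X.Opens) (W : (U : Scheme).Opens) (r : Γ((U : Scheme), W))
    (m : Γ(L.restrict U.ι, W)) :
    (show Γ(L, U.ι ''ᵁ W) from r • m) =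
      (show Γ(X, U.ι ''ᵁ W) from r) • (show Γ(L, U.ι ''ᵁ W) from m) := by
  have hr : (U.ι.appIso W).inv r = (show Γ(X, U.ι ''ᵁ W) from r) := by
    rw [Scheme.Opens.ι_appIso]; rfl
  refine Eq.trans ?_ (congrArg (fun t : Γ(X, U.ι ''ᵁ W) ↦ t • (show Γ(L, U.ι ''ᵁ W) from m)) hr)
  rfl

lemma ι_image_le (U : X.Opens) (W : (U : Scheme).Opens) : U.ι ''ᵁ W ≤ U :=
  ((U.ι).image_mono le_top).trans U.ι_image_top.le

/-- `O_U → L|_U`, `r ↦ r • ℓ`. -/
noncomputable def basisHom (L : X.Modules) {U : X.Opens} (ℓ : Γ(L, U)) :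
    Coh.structureModule (U : Scheme.{u}) ⟶ L.restrict U.ι :=
  ⟨PresheafOfModules.homMk (M₁ := (Coh.structureModule (U : Scheme.{u})).val) (M₂ := (L.restrict U.ι).val)
    { app := fun W ↦ AddCommGrpCat.ofHom
        (((LinearMap.toSpanSingleton Γ(X, U.ι ''ᵁ W.unop) Γ(L, U.ι ''ᵁ W.unop)
          (L.presheaf.map (homOfLE (ι_image_le U W.unop)).op ℓ)).toAddMonoidHom) :
            Γ((U : Scheme), W.unop) →+ Γ(L.restrict U.ι, W.unop))
      naturality := fun {W W'} i ↦ by
        ext (r : Γ(X, U.ι ''ᵁ W.unop))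
        change X.presheaf.map (U.ι.opensFunctor.map i.unop).op r •
          L.presheaf.map (homOfLE (ι_image_le U W'.unop)).op ℓ =
          L.presheaf.map (U.ι.opensFunctor.map i.unop).op
            (r • L.presheaf.map (homOfLE (ι_image_le U W.unop)).op ℓ)
        rw [Scheme.Modules.map_smul]
        congr 1
        exact (Groth.Agent.QCohLib.map_map L (U.ι.image_mono i.unop.le) (ι_image_le U W.unop) ℓ).symm }
    (fun W r (m : Γ(X, U.ι ''ᵁ W.unop)) ↦ by
      refine Eq.trans ?_ (restrict_smul_eq L U W.unop r _).symm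
      exact mul_smul (show Γ(X, U.ι ''ᵁ W.unop) from r) m
        (show Γ(L, U.ι ''ᵁ W.unop) from L.presheaf.map (homOfLE (ι_image_le U W.unop)).op ℓ))⟩

lemma isInvertible_of_isBasis {L : X.Modules}
    (h : ∀ x : X, ∃ (U : X.Opens) (_ : x ∈ U) (ℓ : Γ(L, U)), IsBasis L ℓ) : PicF.IsInvertible L := by
  intro x
  obtain ⟨U, hx, ℓ, hℓ⟩ := h x
  have : IsIso (basisHom L ℓ) := by
    rw [isIso_iff_mono_and_epi, Groth.Agent.QCohLib.mono_iff_app_injective]
    refine ⟨fun W ↦ (hℓ _ (ι_image_le U W)).1, ?_⟩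
    exact Groth.Agent.QCohLib.epi_of_app_surjective _ (B := Set.univ)
      (TopologicalSpace.Opens.isBasis_iff_nbhd.mpr fun {W z} hz ↦ ⟨W, trivial, hz, le_rfl⟩)
      fun W _ ↦ (hℓ _ (ι_image_le U W)).2
  exact ⟨U, hx, ⟨(asIso (basisHom L ℓ)).symm⟩⟩

end Groth.Agent.InvBasic
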