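import Groth.Prelude.Def_Pic
import Groth.Agent.QCohLib.Basic

/-! Local generators of invertible modules. -/

namespace Groth.Agent.InvBasic

open AlgebraicGeometry CategoryTheory TopologicalSpace Opposite

universe u

variable {X : Scheme.{u}}

/-- `ℓ` is a basis of `L` on `U`: multiplication by it is bijective on every open inside `U`. -/
def IsBasis (L : X.Modules) {U : X.Opens} (ℓ : Γ(L, U)) : Prop :=
  ∀ (W : X.Opens) (h : W ≤ U),
    Function.Bijective (fun r : Γ(X, W) ↦ r • (L.presheaf.map (homOfLE h).op ℓ : Γ(L, W)))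

lemma exists_isBasis {L : X.Modules} (hL : PicF.IsInvertible L) (x : X) :
    ∃ (U : X.Opens) (_ : x ∈ U) (ℓ : Γ(L, U)), IsBasis L ℓ := by
  obtain ⟨U, hx, ⟨e⟩⟩ := hL x
  refine ⟨U.ι ''ᵁ ⊤, by rw [U.ι_image_top]; exact hx, e.inv.app ⊤ (1 : Γ((U : Scheme), ⊤)), fun W hW ↦ ?_⟩
  obtain ⟨W', rfl⟩ : ∃ W' : (U : Scheme).Opens, U.ι ''ᵁ W' = W := ⟨U.ι ⁻¹ᵁ W, by
    rw [Scheme.Hom.image_preimage_eq_opensRange_inf, Scheme.Opens.opensRange_ι, inf_eq_right]
    exact hW.trans (U.ι_image_top).le⟩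
  have key : ∀ r : Γ((U : Scheme), W'),
      (show Γ(X, U.ι ''ᵁ W') from r) • (L.presheaf.map (homOfLE hW).op (e.inv.app ⊤ (1 : Γ((U : Scheme), ⊤))) :
        Γ(L, U.ι ''ᵁ W')) = e.inv.app W' r := by
    intro r
    have h1 : L.presheaf.map (homOfLE hW).op (e.inv.app ⊤ (1 : Γ((U : Scheme), ⊤))) =
        e.inv.app W' (1 : Γ((U : Scheme), W')) := by
      refine Eq.trans ?_ (congrArg _ (map_one ((U : Scheme).presheaf.map (homOfLE (le_top : W' ≤ ⊤)).op).hom))
      exact (Groth.Agent.QCohLib.app_map e.inv (le_top : W' ≤ ⊤) (1 : Γ((U : Scheme), ⊤))).symm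
    rw [h1]
    refine Eq.trans ?_ (congrArg (e.inv.app W') (mul_one r))
    refine Eq.trans ?_ (Scheme.Modules.Hom.app_smul e.inv r (1 : Γ((U : Scheme), W'))).symm
    have hr : (U.ι.appIso W').inv r = (show Γ(X, U.ι ''ᵁ W') from r) := by
      rw [Scheme.Opens.ι_appIso]; rfl
    refine Eq.trans (congrArg (fun t : Γ(X, U.ι ''ᵁ W') ↦ t •
      (show Γ(L, U.ι ''ᵁ W') from e.inv.app W' (1 : Γ((U : Scheme), W')))) hr).symm ?_
    rfl
  have hbij : Function.Bijective (e.inv.app W') := by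
    refine ⟨Function.LeftInverse.injective (g := e.hom.app W') fun r ↦ ?_,
      Function.RightInverse.surjective (g := e.hom.app W') fun r ↦ ?_⟩
    · exact DFunLike.congr_fun (congrArg (fun φ ↦ (Scheme.Modules.Hom.app φ W').hom) e.inv_hom_id) r
    · exact DFunLike.congr_fun (congrArg (fun φ ↦ (Scheme.Modules.Hom.app φ W').hom) e.hom_inv_id) r
  rw [show (fun r : Γ(X, U.ι ''ᵁ W') ↦ r • (L.presheaf.map (homOfLE hW).op
    (e.inv.app ⊤ (1 : Γ((U : Scheme), ⊤))) : Γ(L, U.ι ''ᵁ W'))) = fun r ↦ e.inv.app W' r from funext key]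
  exact hbij

lemma IsBasis.restrict {L : X.Modules} {U V : X.Opens} {ℓ : Γ(L, U)} (h : IsBasis L ℓ) (hVU : V ≤ U) :
    IsBasis L (L.presheaf.map (homOfLE hVU).op ℓ : Γ(L, V)) := fun W hW ↦ by
  simp only [Groth.Agent.QCohLib.map_map]
  exact h W (hW.trans hVU)

lemma germ_smul (L : X.Modules) (U : X.Opens) (x : X) (hx : x ∈ U) (r : Γ(X, U)) (m : Γ(L, U)) :
    L.presheaf.germ U x hx (r • m) = X.presheaf.germ U x hx r • L.presheaf.germ U x hx m :=
  PresheafOfModules.germ_smul (R := X.presheaf)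
    (show PresheafOfModules (X.presheaf ⋙ forget₂ CommRingCat RingCat) from L.val) x U hx r m

/-- A basis gives a basis of every stalk. -/
lemma IsBasis.stalk_bijective {L : X.Modules} {U : X.Opens} {ℓ : Γ(L, U)} (h : IsBasis L ℓ) {x : X} (hx : x ∈ U) :
    Function.Bijective (fun c : X.presheaf.stalk x ↦ c • L.presheaf.germ U x hx ℓ) := by
  refine ⟨(injective_iff_map_eq_zero (LinearMap.toSpanSingleton (X.presheaf.stalk x)
    (L.presheaf.stalk x) (L.presheaf.germ U x hx ℓ))).mpr fun c hc ↦ ?_, fun s ↦ ?_⟩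
  · obtain ⟨V, hxV, ρ, rfl⟩ := X.presheaf.exists_germ_eq c
    have h0 : L.presheaf.germ (V ⊓ U) x ⟨hxV, hx⟩
        (X.presheaf.map (homOfLE (inf_le_left : V ⊓ U ≤ V)).op ρ •
          L.presheaf.map (homOfLE (inf_le_right : V ⊓ U ≤ U)).op ℓ) =
        L.presheaf.germ (V ⊓ U) x ⟨hxV, hx⟩ 0 := by
      rw [germ_smul, TopCat.Presheaf.germ_res_apply, TopCat.Presheaf.germ_res_apply, map_zero]
      exact hc
    obtain ⟨W, hxW, i, j, e⟩ := L.presheaf.germ_eq x _ _ _ _ h0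
    rw [map_zero, Scheme.Modules.map_smul] at e
    have hWU : W ≤ U := i.le.trans inf_le_right
    have : X.presheaf.map i.op (X.presheaf.map (homOfLE (inf_le_left : V ⊓ U ≤ V)).op ρ) = 0 := by
      refine (h W hWU).1 ?_
      simp only [zero_smul]
      rw [← e]
      congr 1
      exact (Groth.Agent.QCohLib.map_map L i.le inf_le_right ℓ).symm
    have h2 := congrArg (X.presheaf.germ W x hxW) this
    simpa only [TopCat.Presheaf.germ_res_apply, map_zero] using h2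
  · obtain ⟨V, hxV, t, rfl⟩ := L.presheaf.exists_germ_eq s
    obtain ⟨r, hr⟩ := (h (V ⊓ U) inf_le_right).2 (L.presheaf.map (homOfLE (inf_le_left : V ⊓ U ≤ V)).op t)
    refine ⟨X.presheaf.germ (V ⊓ U) x ⟨hxV, hx⟩ r, ?_⟩
    have := congrArg (L.presheaf.germ (V ⊓ U) x ⟨hxV, hx⟩) hr
    simpa only [germ_smul, TopCat.Presheaf.germ_res_apply] using this

end Groth.Agent.InvBasic
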